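import Groth.Agent.ShriekLQF.Sheaf
import Groth.Prelude.Def_AlgGrp

/-!
# Properness of a homomorphism from properness on the kernel of a proper quotient
-/

set_option autoImplicit false
set_option backward.isDefEq.respectTransparency false
set_option backward.isDefEq.respectTransparency.types false
set_option linter.style.haveILetI false

universe u

open CategoryTheory CategoryTheory.Limits MonoidalCategory CartesianMonoidalCategory MonObj GrpObj AlgebraicGeometry

noncomputable section

namespace Groth.Agent.ExtProper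

variable {S : Scheme.{u}}

theorem isPullback_whiskerLeft (A : Over S) {X Y : Over S} (f : X ⟶ Y) :
    IsPullback (snd A X) (A ◁ f) f (snd A Y) := by
  refine IsPullback.of_isLimit' ⟨(whiskerLeft_snd A f).symm⟩ (PullbackCone.IsLimit.mk _
    (fun c => lift (c.snd ≫ fst _ _) c.fst) (fun c => lift_snd _ _) (fun c => ?_) fun c m h1 h2 => ?_)
  · refine CartesianMonoidalCategory.hom_ext _ _ ?_ ?_
    · rw [Category.assoc, whiskerLeft_fst, lift_fst]
    · rw [Category.assoc, whiskerLeft_snd, lift_snd_assoc]
      exact c.condition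
  · refine CartesianMonoidalCategory.hom_ext _ _ ?_ ?_
    · rw [lift_fst, ← h2, Category.assoc, whiskerLeft_fst]
    · rw [lift_snd, h1]

theorem isPullback_shear {G G' Q H : Over S} [GrpObj G] [GrpObj G'] [GrpObj Q] [GrpObj H]
    (p : G ⟶ Q) [IsMonHom p] (i : G' ⟶ G) [IsMonHom i] (hker : AlgGrp.IsKernel i p) (u : G ⟶ H) [IsMonHom u] :
    IsPullback (fst G G' * (snd G G' ≫ i)) (lift ((fst G G' ≫ u) * (snd G G' ≫ i ≫ u)) (fst G G'))
      (lift u p) (H ◁ p) := by
  have hip : i ≫ p = 1 := hker.w.trans (Hom.one_def).symm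
  have hmono : ∀ {T : Over S} (a b : T ⟶ G'), a ≫ i = b ≫ i → a = b := fun a b h =>
    hker.hom_ext h (toUnit_unique _ _)
  have hw : (fst G G' * (snd G G' ≫ i)) ≫ lift u p =
      lift ((fst G G' ≫ u) * (snd G G' ≫ i ≫ u)) (fst G G') ≫ (H ◁ p) := by
    refine CartesianMonoidalCategory.hom_ext _ _ ?_ ?_
    · rw [Category.assoc, lift_fst, Category.assoc, whiskerLeft_fst, lift_fst, MonObj.mul_comp, Category.assoc]
    · rw [Category.assoc, lift_snd, Category.assoc, whiskerLeft_snd, lift_snd_assoc, MonObj.mul_comp,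
        Category.assoc, hip, MonObj.comp_one, _root_.mul_one]
  have hz : ∀ c : PullbackCone (lift u p) (H ◁ p), ∃ z : c.pt ⟶ G', z ≫ i = (c.snd ≫ snd _ _)⁻¹ * c.fst := by
    intro c
    have hc : c.fst ≫ p = (c.snd ≫ snd _ _) ≫ p := by
      have := congrArg (· ≫ snd _ _) c.condition
      simpa using this
    obtain ⟨z, hz, -⟩ := hker.exists_lift ((c.snd ≫ snd _ _)⁻¹ * c.fst) (toUnit c.pt) (by
      rw [MonObj.mul_comp, GrpObj.inv_comp, hc, inv_mul_cancel, Hom.one_def])
    exact ⟨z, hz⟩
  choose z hz using hz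
  refine IsPullback.of_isLimit' ⟨hw⟩ (PullbackCone.IsLimit.mk _
    (fun c => lift (c.snd ≫ snd _ _) (z c)) (fun c => ?_) (fun c => ?_) fun c m h1 h2 => ?_)
  · rw [MonObj.comp_mul, lift_fst, lift_snd_assoc, hz, mul_inv_cancel_left]
  · refine CartesianMonoidalCategory.hom_ext _ _ ?_ ?_
    · have h0 := congrArg (· ≫ fst _ _) c.condition
      simp only [Category.assoc, lift_fst, whiskerLeft_fst] at h0
      rw [Category.assoc, lift_fst, MonObj.comp_mul, lift_fst_assoc, lift_snd_assoc, ← Category.assoc (z c),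
        hz, MonObj.mul_comp, GrpObj.inv_comp, Category.assoc, mul_inv_cancel_left, h0]
    · rw [Category.assoc, lift_snd, lift_fst]
  · have e1 : m ≫ fst G G' = c.snd ≫ snd _ _ := by rw [← h2, Category.assoc, lift_snd]
    refine CartesianMonoidalCategory.hom_ext _ _ ?_ ?_
    · rw [lift_fst, e1]
    · rw [lift_snd]
      apply hmono
      rw [hz, ← h1, MonObj.comp_mul, e1, inv_mul_cancel_left, Category.assoc]

theorem isProper_of_kernel {G G' Q H : Over S} [GrpObj G] [GrpObj G'] [GrpObj Q] [GrpObj H]
    (p : G ⟶ Q) [IsMonHom p] [Surjective p.left] [Flat p.left] [LocallyOfFinitePresentation p.left]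
    [IsProper Q.hom] (i : G' ⟶ G) [IsMonHom i] (hker : AlgGrp.IsKernel i p) (u : G ⟶ H) [IsMonHom u]
    (hu : IsProper (i ≫ u).left) : IsProper u.left := by
  let e : (G ⊗ H) ≅ (H ⊗ G) :=
    { hom := lift ((fst G H ≫ u) * snd G H) (fst G H)
      inv := lift (snd H G) ((snd H G ≫ u)⁻¹ * fst H G)
      hom_inv_id := by
        refine CartesianMonoidalCategory.hom_ext _ _ ?_ ?_
        · rw [Category.assoc, lift_fst, lift_snd, Category.id_comp]
        · rw [Category.assoc, lift_snd, MonObj.comp_mul, GrpObj.comp_inv, lift_snd_assoc, lift_fst,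
            inv_mul_cancel_left, Category.id_comp]
      inv_hom_id := by
        refine CartesianMonoidalCategory.hom_ext _ _ ?_ ?_
        · rw [Category.assoc, lift_fst, MonObj.comp_mul, lift_fst_assoc, lift_snd, mul_inv_cancel_left,
            Category.id_comp]
        · rw [Category.assoc, lift_snd, lift_fst, Category.id_comp] }
  have hsq := (isPullback_shear p i hker u).map (Over.forget S)
  have hb : IsPullback (snd H G).left (H ◁ p).left p.left (snd H Q).left :=
    (isPullback_whiskerLeft H p).map (Over.forget S)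
  have hQ : (@Surjective ⊓ @Flat ⊓ @LocallyOfFinitePresentation : MorphismProperty Scheme.{u}) (H ◁ p).left :=
    MorphismProperty.of_isPullback hb ⟨⟨inferInstance, inferInstance⟩, inferInstance⟩
  have hfac : lift ((fst G G' ≫ u) * (snd G G' ≫ i ≫ u)) (fst G G') = (G ◁ (i ≫ u)) ≫ e.hom := by
    refine CartesianMonoidalCategory.hom_ext _ _ ?_ ?_
    · rw [lift_fst, Category.assoc, lift_fst, MonObj.comp_mul, whiskerLeft_fst_assoc, whiskerLeft_snd]
    · rw [lift_snd, Category.assoc, lift_snd, whiskerLeft_fst]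
  have hw' : IsProper (lift ((fst G G' ≫ u) * (snd G G' ≫ i ≫ u)) (fst G G')).left := by
    have hc : IsPullback (snd G G').left (G ◁ (i ≫ u)).left (i ≫ u).left (snd G H).left :=
      (isPullback_whiskerLeft G (i ≫ u)).map (Over.forget S)
    haveI : IsProper (G ◁ (i ≫ u)).left := MorphismProperty.of_isPullback hc hu
    haveI : IsIso e.hom.left := ((Over.forget S).mapIso e).isIso_hom
    rw [hfac, Over.comp_left]
    infer_instance
  haveI := ShriekLQF.descendsAlong_isProper.{u}
  haveI : IsProper (lift u p).left :=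
    MorphismProperty.of_isPullback_of_descendsAlong (P := @IsProper)
      (Q := (@Surjective ⊓ @Flat ⊓ @LocallyOfFinitePresentation : MorphismProperty Scheme.{u}))
      hsq.flip hQ hw'
  haveI : IsProper (fst H Q).left := inferInstanceAs (IsProper (pullback.fst H.hom Q.hom))
  have hu' : u = lift u p ≫ fst H Q := (lift_fst _ _).symm
  rw [hu', Over.comp_left]
  infer_instance

end Groth.Agent.ExtProper
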